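import Cfsg.Agent.S4343
import Cfsg.Agent.S4503
import Cfsg.Agent.S4504
import Cfsg.Agent.S4508
import Cfsg.Agent.Lib.DefOne.Principal
import Cfsg.Agent.Lib.Classical.SL

/-!
Simple groups with fewer than `p²` Sylow `p`-subgroups, in prime power number: `p + 1` is then a power
of two.
-/

set_option autoImplicit false
set_option linter.style.haveILetI false
set_option linter.unusedSectionVars false

namespace Cfsg.Agent.SylowNumPSquare

open Cfsg Cfsg.Agent.Char Cfsg.Agent.Blocks Cfsg.Agent.DefOne

universe u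

variable {S : Type u} [Group S] [Finite S] [IsSimpleGroup S]

/-- An irreducible character of a simple group other than the principal one is faithful. -/
theorem faithful_of_ne {χ : IrrCharacter S} (hne : χ ≠ principal S) :
    ∀ g : S, (χ : S → ℂ) g = (χ : S → ℂ) 1 → g = 1 := by
  classical
  haveI := Fintype.ofFinite S
  obtain ⟨N, hN, hmem, -⟩ := Char.IsCharacter.exists_kernel (irr_isCharacter χ)
  rcases hN.eq_bot_or_eq_top with h | h
  · exact fun g hg => Subgroup.mem_bot.mp (h ▸ (hmem g).mpr hg)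
  · exfalso
    have hconst : ∀ g, (χ : S → ℂ) g = (χ : S → ℂ) 1 := fun g => (hmem g).mp (h ▸ Subgroup.mem_top g)
    obtain ⟨d, hd0, hd⟩ := exists_deg χ
    have h0 := classInner_irr_of_ne χ.2 (principal S).2 (fun e => hne (Subtype.ext e))
    simp only [classInner, Char.principal, map_one, mul_one, hconst, hd, Finset.sum_const,
      Finset.card_univ, nsmul_eq_mul, mul_eq_zero, inv_eq_zero, Nat.cast_eq_zero] at h0
    rcases h0 with h0 | h0 | h0 <;>
      first | omega | exact Nat.card_pos.ne' h0 | exact Fintype.card_ne_zero h0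

theorem degree_ne_one (hna : ¬ IsMulCommutative S) {χ : IrrCharacter S} (hne : χ ≠ principal S) :
    charDegree (χ : S → ℂ) ≠ 1 := by
  intro h1
  have h1' : (χ : S → ℂ) 1 = 1 := by rw [irr_one_eq_charDegree, h1, Nat.cast_one]
  obtain ⟨f, hf⟩ := exists_hom_of_degree_one (irr_isCharacter χ) h1'
  refine hna ⟨⟨fun a b => ?_⟩⟩
  have h2 := faithful_of_ne hne (a * b * (b * a)⁻¹) ?_
  · exact mul_inv_eq_one.1 h2
  · have e : f (a * b * (b * a)⁻¹) = 1 := by
      simp only [map_mul, map_inv]
      rw [mul_comm (f b) (f a), mul_inv_cancel]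
    rw [hf]
    simp only []
    rw [e, map_one]

/-- Arithmetic of the order of `PSL(2,p)`. -/
theorem index_eq {p n m : ℕ} (hp : 5 ≤ p) (hodd : Odd p) (hn : n % p = 1) (hn1 : 1 < n)
    (heq : 2 * (n * m) = p ^ 2 - 1) : n = p + 1 := by
  obtain ⟨h, hh⟩ := hodd
  obtain ⟨k, hk⟩ : ∃ k, n = p * k + 1 := ⟨n / p, by rw [← hn]; exact (Nat.div_add_mod n p).symm⟩
  have hk1 : 1 ≤ k := by
    rcases Nat.eq_zero_or_pos k with rfl | h0
    · omega
    · exact h0
  have he : 2 * (n * m) + 1 = p * p := by
    have : 1 ≤ p ^ 2 := Nat.one_le_pow _ _ (by omega)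
    rw [heq, ← pow_two]; omega
  subst hk
  have hdvd : p ∣ 2 * m + 1 := by
    refine (Nat.dvd_add_right (dvd_mul_right p (2 * (k * m)))).1 ⟨p, ?_⟩
    rw [← he]; ring
  obtain ⟨c, hc⟩ := hdvd
  have h2 : 2 * (k * m) + c = p := by
    refine Nat.eq_of_mul_eq_mul_left (show 0 < p by omega) ?_
    rw [← he, Nat.mul_add, ← hc]; ring
  have hc1 : 1 ≤ c := by
    rcases Nat.eq_zero_or_pos c with rfl | h0
    · omega
    · exact h0
  rcases Nat.lt_or_ge c 2 with hlt | hge
  · obtain rfl : c = 1 := by omega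
    have hm : 2 * m + 1 = p := by omega
    have h3 : k * m = 1 * m := by rw [one_mul]; omega
    have hk' : k = 1 := Nat.eq_of_mul_eq_mul_right (by omega) h3
    subst hk'
    omega
  · exfalso
    have h4 : p * 2 ≤ 2 * m + 1 := hc ▸ Nat.mul_le_mul_left p hge
    have h5 : m ≤ k * m := Nat.le_mul_of_pos_left m hk1
    omega

/-- A simple group with fewer than `p²` Sylow `p`-subgroups, in prime power number, forces `p` to be
a Mersenne prime greater than three. -/
theorem simple_pp (hna : ¬ IsMulCommutative S) (p : ℕ) [hp : Fact p.Prime] (hdiv : p ∣ Nat.card S)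
    (hn : Nat.card (Sylow p S) < p ^ 2) {q k : ℕ} (hq : q.Prime)
    (hk : Nat.card (Sylow p S) = q ^ k) : 3 < p ∧ ∃ m : ℕ, p + 1 = 2 ^ m := by
  classical
  haveI := Fintype.ofFinite S
  have hp' : p.Prime := hp.out
  obtain ⟨P⟩ : Nonempty (Sylow p S) := inferInstance
  have hP : Nat.card P = p := S4343.result hna p hdiv hn P
  have hsq : ¬ p ^ 2 ∣ Nat.card S := by
    intro h
    have h1 := (hp'.pow_dvd_iff_le_factorization Nat.card_pos.ne').1 h
    have h2 := P.card_eq_multiplicity
    rw [hP] at h2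
    have h3 : (Nat.card S).factorization p = 1 :=
      (Nat.pow_eq_self_iff hp'.two_le).1 h2.symm
    rw [h3] at h1
    omega
  have hnn : ∀ H : Subgroup S, H.Normal → Nat.card H ≠ p := by
    intro H hH hc
    rcases hH.eq_bot_or_eq_top with e | e
    · rw [e, Subgroup.card_bot] at hc; exact hp'.ne_one hc.symm
    · rw [e, Subgroup.card_top] at hc
      haveI : IsCyclic S := isCyclic_of_prime_card hc
      letI := IsCyclic.commGroup (α := S)
      exact hna ⟨⟨fun a b => mul_comm a b⟩⟩
  set C := Subgroup.centralizer ((P : Subgroup S) : Set S) with hCdef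
  set N := Subgroup.normalizer ((P : Subgroup S) : Set S) with hNdef
  have hCN : C ≤ N := Subgroup.centralizer_le_normalizer _
  set e := C.relIndex N with he
  have hn0 : Nat.card (Sylow p S) = N.index := Sylow.card_eq_index_normalizer P
  have hn1 : 1 < N.index := by
    by_contra h
    have h0 : N.index ≠ 0 := Subgroup.index_ne_zero_of_finite
    have hNi : N.index = 1 := by omega
    have hNt : Subgroup.normalizer ((P : Subgroup S) : Set S) = ⊤ := Subgroup.index_eq_one.1 hNi
    exact hnn _ (Subgroup.normalizer_eq_top_iff.1 hNt) hP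
  have hk0 : k ≠ 0 := by
    intro h
    rw [h, pow_zero, hn0] at hk
    omega
  have hmod : Nat.card (Sylow p S) % p = 1 := by
    have := card_sylow_modEq_one p S
    rw [Nat.ModEq, Nat.one_mod_eq_one.2 hp'.ne_one] at this
    exact this
  -- Burnside
  have he1 : e ≠ 1 := by
    intro h
    have hle : N ≤ C := Subgroup.relIndex_eq_one.1 h
    have hco := MonoidHom.ker_transferSylow_isComplement' P hle
    rcases (MonoidHom.normal_ker (MonoidHom.transferSylow P hle)).eq_bot_or_eq_top with hb | ht
    · have := hco.card_mul_card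
      rw [hb, Subgroup.card_bot, one_mul] at this
      exact hnn ⊤ inferInstance (by rw [Subgroup.card_top, ← this]; exact hP)
    · have := hco.card_mul_card
      rw [ht, Subgroup.card_top, hP] at this
      have h2 := Nat.card_pos (α := S)
      exact hp'.ne_one (by nlinarith)
  obtain ⟨M, hM⟩ := exists_isPModular_witness p
  haveI := Blocks.IsPModular.isPrime hM
  obtain ⟨V, e', K, he'⟩ := DefOne.exists_conf hp' P hP
  have hee : e' = e := he'
  haveI : Fintype (P : Subgroup S) := Fintype.ofFinite _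
  haveI : Fintype V := Fintype.ofFinite _
  haveI : Fintype N := Fintype.ofFinite _
  haveI : Fintype ((P : Subgroup S) →* ℂˣ) := Fintype.ofFinite _
  obtain ⟨eb, X, Y, δ, sg, F⟩ := DefOne.exists_families K hM (DefOne.trivB V)
  have heb : eb = e := (DefOne.eb_triv K F).trans hee
  have hB := DefOne.principal_eq K hM F
  have hmem : ∀ χ, χ ∈ X ∪ Y → χ ∈ principalBlock M S := fun χ h => by
    rw [hB]; simpa using h
  have hedvd : e ∣ p - 1 := heb ▸ DefOne.Families.eb_dvd K F
  have hp2 : p ≠ 2 := by
    intro h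
    subst h
    exact he1 (Nat.dvd_one.1 hedvd)
  have hp3 : 3 ≤ p := by have := hp'.two_le; omega
  have hele : e ≤ p - 1 := Nat.le_of_dvd (by omega) hedvd
  -- existence of a good character
  obtain ⟨χ, hχ, hχne, hqχ⟩ : ∃ χ ∈ X ∪ Y, χ ≠ principal S ∧ ¬ q ∣ charDegree (χ : S → ℂ) := by
    by_contra hcon
    push Not at hcon
    obtain ⟨θ, hθ, hθ'⟩ : ∃ θ ∈ Y, θ = principal S ∨ principal S ∈ X := by
      have h1 : principal S ∈ (X : Set (IrrCharacter S)) ∪ Y := hB ▸ principal_mem_principalBlock
      rcases h1 with h1 | h1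
      · obtain ⟨θ, hθ⟩ := F.nonempty; exact ⟨θ, hθ, Or.inr h1⟩
      · exact ⟨_, h1, Or.inl rfl⟩
    have hrel := DefOne.Families.relation K F hθ (g := (1 : S))
      (by rw [orderOf_one]; exact hp'.not_dvd_one)
    simp only [irr_one_eq_charDegree] at hrel
    have hrelZ : ∑ χ ∈ X, sg χ * (charDegree (χ : S → ℂ) : ℤ) +
        δ * (charDegree (θ : S → ℂ) : ℤ) = 0 := by exact_mod_cast hrel
    have hone : charDegree (principal S : S → ℂ) = 1 := by simp [charDegree, Char.principal]
    have hq1 : ¬ (q : ℤ) ∣ 1 := fun h => hq.not_dvd_one (by exact_mod_cast h)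
    rcases hθ' with hθ1 | hX
    · have h2 : ∀ χ ∈ X, (q : ℤ) ∣ sg χ * (charDegree (χ : S → ℂ) : ℤ) := fun χ hχ =>
        Dvd.dvd.mul_left (Int.natCast_dvd_natCast.2 (hcon χ (Finset.mem_union_left _ hχ) fun h =>
          Finset.disjoint_left.1 F.disj hχ (by rw [h, ← hθ1]; exact hθ))) _
      have h3 := (Int.dvd_add_right (Finset.dvd_sum h2)).1 (hrelZ ▸ dvd_zero (q : ℤ))
      rw [hθ1, hone, Nat.cast_one, mul_one] at h3
      rcases F.sign with h | h <;> rw [h] at h3
      · exact hq1 h3
      · exact hq1 (dvd_neg.1 h3)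
    · have hθne : θ ≠ principal S := fun h =>
        Finset.disjoint_left.1 F.disj hX (h ▸ hθ)
      rw [← Finset.add_sum_erase _ _ hX, hone, Nat.cast_one, mul_one, add_assoc] at hrelZ
      have h2 : (q : ℤ) ∣ ∑ χ ∈ X.erase (principal S), sg χ * (charDegree (χ : S → ℂ) : ℤ) +
          δ * (charDegree (θ : S → ℂ) : ℤ) :=
        dvd_add (Finset.dvd_sum fun χ hχ => Dvd.dvd.mul_left (Int.natCast_dvd_natCast.2
            (hcon χ (Finset.mem_union_left _ (Finset.mem_of_mem_erase hχ))
              (Finset.ne_of_mem_erase hχ))) _)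
          (Dvd.dvd.mul_left (Int.natCast_dvd_natCast.2
            (hcon θ (Finset.mem_union_right _ hθ) hθne)) _)
      have h3 := (Int.dvd_add_left h2).1 (hrelZ ▸ dvd_zero (q : ℤ))
      rcases F.signX _ hX with h | h <;> rw [h] at h3
      · exact hq1 h3
      · exact hq1 (dvd_neg.1 h3)
  have hχB := hmem χ hχ
  set d := charDegree (χ : S → ℂ) with hd
  have hd0 : d ≠ 0 := by
    intro h
    exact IsIrrCharacter.one_ne_zero χ.2 (by rw [irr_one_eq_charDegree, ← hd, h, Nat.cast_zero])
  -- a coefficient which is a sign, and the degree modulo `p`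
  obtain ⟨l, a, hla, ha, hpd⟩ : ∃ (l : (P : Subgroup S) →* ℂˣ) (a : ℤ),
      acoef K χ (trivB V) l = a ∧ (a = 1 ∨ a = -1) ∧ ¬ p ∣ d := by
    have hcong := DefOne.degree_congr K hM hχB
    have hsum : ∃ b : ℤ, ∑ l, acoef K χ (trivB V) l = b ∧ ¬ (p : ℤ) ∣ b := by
      rcases Finset.mem_union.1 hχ with h | h
      · refine ⟨_, DefOne.Families.sum_X K F h, fun hd' => ?_⟩
        rcases F.signX χ h with h1 | h1 <;> rw [h1] at hd' <;>
        · have : (p : ℤ) ∣ 1 := by
            have h2 : (p : ℤ) ∣ (p : ℤ) - 1 := by simpa using hd'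
            simpa using (dvd_refl (p : ℤ)).sub h2
          exact hp'.not_dvd_one (by exact_mod_cast this)
      · refine ⟨_, F.sumY χ h, fun hd' => ?_⟩
        have h2 : (p : ℤ) ∣ (eb : ℤ) := by
          rcases F.sign with h1 | h1 <;> rw [h1] at hd' <;> simpa using hd'
        have h3 : p ∣ eb := Int.natCast_dvd_natCast.1 h2
        have := Nat.le_of_dvd (DefOne.Families.eb_pos K F) h3
        omega
    obtain ⟨b, hb, hpb⟩ := hsum
    have hpd : ¬ p ∣ d := by
      intro h
      rw [hb] at hcong
      refine hpb ?_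
      have h1 := Int.modEq_iff_dvd.1 hcong
      have h2 : (p : ℤ) ∣ (d : ℤ) := Int.natCast_dvd_natCast.2 h
      have h4 : -b - (d : ℤ) + d = -b := by ring
      exact dvd_neg.1 (h4 ▸ dvd_add h1 h2)
    obtain ⟨l, -, hl⟩ : ∃ l ∈ (Finset.univ : Finset ((P : Subgroup S) →* ℂˣ)),
        acoef K χ (trivB V) l ≠ 0 :=
      Finset.exists_ne_zero_of_sum_ne_zero (fun h => hpb (by rw [← hb, h]; exact dvd_zero _))
    refine ⟨l, _, rfl, ?_, hpd⟩
    have hl1 : l ≠ 1 := fun h => hl (by rw [h, acoef_one])
    rcases Finset.mem_union.1 hχ with h | h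
    · rw [F.rowX χ h l hl1]; exact F.signX χ h
    · rcases F.valY χ h l with h1 | h1
      · exact absurd h1 hl
      · rw [h1]; exact F.sign
  have hidx : C.index = e * N.index := (Subgroup.relIndex_mul_index hCN).symm
  have hde : d ∣ e := by
    have hint : IsIntegral ℤ ((C.index : ℂ) * (p : ℂ) * (a : ℂ) / (d : ℂ)) := by
      rw [← hla, acoef_eq_phi K]
      rw [show (C.index : ℂ) * (p : ℂ) * ((p : ℂ)⁻¹ * ∑ y : (P : Subgroup S),
            phi (χ : S → ℂ) (trivB V) y * (1 - starRingEnd ℂ ((l y : ℂˣ) : ℂ))) / (d : ℂ) =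
          ∑ y : (P : Subgroup S), (C.index : ℂ) * phi (χ : S → ℂ) (trivB V) y / (d : ℂ) *
            (1 - starRingEnd ℂ ((l y : ℂˣ) : ℂ)) by
        rw [mul_assoc (C.index : ℂ), mul_inv_cancel_left₀ (Nat.cast_ne_zero.2 hp'.ne_zero),
          Finset.mul_sum, Finset.sum_div]
        exact Finset.sum_congr rfl fun y _ => by ring]
      refine IsIntegral.sum _ fun y _ => ?_
      by_cases hy : y = 1
      · rw [hy, map_one, Units.val_one, map_one, sub_self, mul_zero]; exact isIntegral_zero
      refine IsIntegral.mul ?_ (isIntegral_one.sub ?_)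
      · have hy1 : (y : S) ≠ 1 := fun h => hy (Subtype.ext h)
        rw [DefOne.phi_principal K hM hχB hy, hCdef, DefOne.centralizer_P K y.2 hy1,
          hd, ← irr_one_eq_charDegree]
        exact IsIrrCharacter.isIntegral_centralChar χ.2 (y : S)
      · refine map_isIntegral_int (starRingEnd ℂ) ?_
        exact isIntegral_of_pow_eq_one hp'.pos (linear_pow_p K l y)
    have hint' : IsIntegral ℤ (((C.index * p : ℕ) : ℂ) / (d : ℂ)) := by
      push_cast
      rcases ha with h | h <;> rw [h] at hint
      · simpa using hint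
      · have := hint.neg
        simpa [neg_div] using this
    have h1 := dvd_of_isIntegral_div hd0 hint'
    have h2 : d ∣ C.index := (Nat.Coprime.dvd_of_dvd_mul_right
      ((Nat.coprime_comm.1 ((hp'.coprime_iff_not_dvd).2 hpd))) h1)
    rw [hidx, ← hn0, hk] at h2
    refine Nat.Coprime.dvd_of_dvd_mul_right ?_ h2
    exact Nat.Coprime.pow_right k (Nat.coprime_comm.1 ((hq.coprime_iff_not_dvd).2 hqχ))
  have hdp : p ≤ 2 * d + 1 := S4503.result p hp' hdiv hsq hnn _ (irr_isCharacter χ) (faithful_of_ne hχne)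
  have hd2 : d ≠ 1 := degree_ne_one hna hχne
  have hdle : d ≤ e := Nat.le_of_dvd (Nat.pos_of_ne_zero fun h => by simp [h] at hedvd; omega) hde
  rcases eq_or_lt_of_le hdp with heq | hlt
  · -- the small degree
    obtain ⟨iso⟩ := S4504.result p hp' hdiv hsq hnn _ (irr_isCharacter χ) (faithful_of_ne hχne) heq.symm
    have hp5 : 5 ≤ p := by omega
    have hZ : Subgroup.center S = ⊥ := by
      rcases (inferInstance : (Subgroup.center S).Normal).eq_bot_or_eq_top with h | h
      · exact h
      · exact absurd ⟨⟨fun a b => Subgroup.mem_center_iff.1 (h ▸ Subgroup.mem_top b) a⟩⟩ hna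
    have hcard := Nat.card_congr iso.toEquiv
    rw [hZ, Nat.card_congr QuotientGroup.quotientBot.toEquiv] at hcard
    have hpsl := Cfsg.Agent.ClassicalSL.card_psl_mul (ι := Fin 2) (F := ZMod p)
    rw [← hcard, Cfsg.Agent.ClassicalSL.card_gl_fin (q := p) (by simp) 2, Nat.card_zmod,
      Fintype.card_fin, Fin.prod_univ_two] at hpsl
    simp only [Fin.val_zero, Fin.val_one, pow_zero, pow_one] at hpsl
    have hg : Nat.gcd 2 (p - 1) = 2 := Nat.gcd_eq_left (by
      rcases hp'.eq_two_or_odd with h | h <;> omega)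
    rw [hg] at hpsl
    obtain ⟨m, hm⟩ : ∃ m, Nat.card N = p * m := hP ▸ Subgroup.card_dvd_of_le Subgroup.le_normalizer
    have hS : N.index * (p * m) = Nat.card S := by rw [← hm, mul_comm, Subgroup.card_mul_index]
    have h2 : 2 * (N.index * m) = p ^ 2 - 1 := by
      refine Nat.eq_of_mul_eq_mul_left (show 0 < p * (p - 1) from Nat.mul_pos (by omega) (by omega)) ?_
      calc p * (p - 1) * (2 * (N.index * m)) = 2 * ((p - 1) * (N.index * (p * m))) := by ring
        _ = (p ^ 2 - 1) * (p ^ 2 - p) := by rw [hS, hpsl]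
        _ = p * (p - 1) * (p ^ 2 - 1) := by
          rw [show p ^ 2 - p = p * (p - 1) by rw [pow_two, Nat.mul_sub, mul_one]]; ring
    have hne : N.index = p + 1 :=
      index_eq hp5 (hp'.odd_of_ne_two hp2) (hn0 ▸ hmod) hn1 h2
    refine ⟨by omega, k, ?_⟩
    rw [← hne, ← hn0, hk]
    have h2q : 2 ∣ q ^ k := by
      rw [← hk, hn0, hne]
      rcases hp'.eq_two_or_odd with h | h <;> omega
    rw [(Nat.prime_dvd_prime_iff_eq Nat.prime_two hq).1 (Nat.prime_two.dvd_of_dvd_pow h2q)]
  · -- degree `p - 1`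
    exfalso
    have hep : e = p - 1 := by
      obtain ⟨c, hc⟩ := hedvd
      have hc1 : c < 2 := by
        by_contra h
        have := Nat.mul_le_mul_left e (show 2 ≤ c by omega)
        omega
      interval_cases c <;> omega
    have hdp1 : d = p - 1 := by
      obtain ⟨c, hc⟩ := hde
      have hc1 : c < 2 := by
        by_contra h
        have := Nat.mul_le_mul_left d (show 2 ≤ c by omega)
        omega
      interval_cases c <;> omega
    -- all coefficients equal
    obtain ⟨σ, hσ, hall⟩ : ∃ σ : ℤ, (σ = 1 ∨ σ = -1) ∧ ∀ l, l ≠ 1 → acoef K χ (trivB V) l = σ := by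
      rcases Finset.mem_union.1 hχ with h | h
      · exact ⟨sg χ, F.signX χ h, F.rowX χ h⟩
      · refine ⟨δ, F.sign, fun m hm => ?_⟩
        rcases F.valY χ h m with h1 | h1
        · exfalso
          have hs := F.sumY χ h
          rw [← Finset.add_sum_erase _ _ (Finset.mem_univ m), h1, zero_add] at hs
          have hbd : |δ * (eb : ℤ)| ≤ ((Finset.univ.erase m).erase 1).card := by
            rw [← hs, ← Finset.add_sum_erase _ _ (Finset.mem_erase.2 ⟨Ne.symm hm, Finset.mem_univ _⟩),
              acoef_one, zero_add]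
            refine (Finset.abs_sum_le_sum_abs _ _).trans ?_
            refine le_trans (Finset.sum_le_card_nsmul _ _ 1 fun x _ => ?_) (by simp)
            rcases F.valY χ h x with h2 | h2 <;> rw [h2] <;> rcases F.sign with h3 | h3 <;> simp [h3]
          rw [Finset.card_erase_of_mem (Finset.mem_erase.2 ⟨Ne.symm hm, Finset.mem_univ _⟩),
            Finset.card_erase_of_mem (Finset.mem_univ _), Finset.card_univ, CCSylow.card_dual K.D, K.hP] at hbd
          rcases F.sign with h3 | h3 <;> rw [h3] at hbd <;> simp only [one_mul, neg_mul, abs_neg,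
            Nat.abs_cast] at hbd <;> omega
        · exact h1
    have hsum : ∑ m, acoef K χ (trivB V) m = ((p : ℤ) - 1) * σ := by
      rw [← Finset.add_sum_erase _ _ (Finset.mem_univ 1), acoef_one, zero_add,
        Finset.sum_congr rfl fun m hm => hall m (Finset.ne_of_mem_erase hm), Finset.sum_const,
        Finset.card_erase_of_mem (Finset.mem_univ _), Finset.card_univ, CCSylow.card_dual K.D, K.hP,
        nsmul_eq_mul, Nat.cast_sub hp'.pos, Nat.cast_one]
    have hσ1 : σ = -1 := by
      rcases hσ with h | h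
      · exfalso
        have hcong := Int.modEq_iff_dvd.1 (DefOne.degree_congr K hM hχB)
        rw [hsum, h, mul_one, ← hd, hdp1, Nat.cast_sub hp'.pos, Nat.cast_one] at hcong
        have h2 : (p : ℤ) ∣ 2 := by
          have : (-((p : ℤ) - 1) - ((p : ℤ) - 1)) + 2 * p = 2 := by ring
          exact this ▸ dvd_add hcong (dvd_mul_left _ _)
        have := Nat.le_of_dvd two_pos (show p ∣ 2 by exact_mod_cast h2)
        omega
      · exact h
    have hval : ∀ y : (P : Subgroup S), y ≠ 1 → phi (χ : S → ℂ) (trivB V) y = -1 := by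
      intro y hy
      have hl := CCSylow.sum_linear K.D y
      rw [if_neg hy, ← Finset.add_sum_erase _ _ (Finset.mem_univ 1)] at hl
      rw [phi_eq_acoef K χ _ hy, ← Finset.add_sum_erase _ _ (Finset.mem_univ 1), acoef_one,
        Int.cast_zero, zero_mul, zero_add,
        Finset.sum_congr rfl fun m hm => by rw [hall m (Finset.ne_of_mem_erase hm), hσ1],
        ← Finset.mul_sum]
      simp only [MonoidHom.one_apply, Units.val_one] at hl
      push_cast
      linear_combination hl
    -- the centralizer is `P`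
    have hV : V = ⊥ := by
      have hnat := CCSylow.co_eq K.D (irr_isCharacter χ) 1 (trivB V)
      rw [co_eq_phi K, ← Finset.add_sum_erase _ _ (Finset.mem_univ 1)] at hnat
      simp only [MonoidHom.one_apply, Units.val_one, map_one, mul_one] at hnat
      rw [Finset.sum_congr rfl fun y hy => hval y (Finset.ne_of_mem_erase hy), Finset.sum_const,
        Finset.card_erase_of_mem (Finset.mem_univ _), Finset.card_univ, ← Nat.card_eq_fintype_card,
        hP, nsmul_eq_mul, inv_mul_eq_iff_eq_mul₀ (Nat.cast_ne_zero.2 hp'.ne_zero)] at hnat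
      have hA := congrArg Complex.re hnat
      have hphi : phi (χ : S → ℂ) (trivB V) (1 : (P : Subgroup S)) = (Nat.card V : ℂ)⁻¹ * ∑ v : V, (χ : S → ℂ) v := by
        simp only [phi, trivB, map_one, mul_one, OneMemClass.coe_one, one_mul]
      rw [hphi] at hA
      have hre : ((Nat.card V : ℂ)⁻¹ * ∑ v : V, (χ : S → ℂ) v).re =
          (Nat.card V : ℝ)⁻¹ * ∑ v : V, ((χ : S → ℂ) v).re := by
        rw [show (Nat.card V : ℂ)⁻¹ = (((Nat.card V : ℝ)⁻¹ : ℝ) : ℂ) by push_cast; rfl,
          Complex.re_ofReal_mul, Complex.re_sum]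
      simp only [Complex.add_re, Complex.mul_re, Complex.natCast_re, Complex.natCast_im,
        Complex.neg_re, Complex.one_re, Complex.neg_im, Complex.one_im, hre] at hA
      have hle : ∀ v : V, ((χ : S → ℂ) v).re ≤ (d : ℝ) := fun v => by
        refine (Complex.re_le_norm _).trans ?_
        obtain ⟨n, ρ, hρ⟩ := irr_isCharacter χ
        have h1 := congrFun hρ 1
        rw [Representation.char_one, irr_one_eq_charDegree, ← hd] at h1
        rw [← hρ, show (d : ℝ) = (Module.finrank ℂ (Fin n → ℂ) : ℝ) by exact_mod_cast h1.symm]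
        exact norm_char_le ρ _
      have hge : (Nat.card V : ℝ) * d ≤ ∑ v : V, ((χ : S → ℂ) v).re := by
        have hpos : (0 : ℝ) < Nat.card V := Nat.cast_pos.2 Nat.card_pos
        rw [hdp1, ← le_inv_mul_iff₀ hpos]
        have hpn : (0 : ℝ) ≤ (p : ℝ) * (CCSylow.nco K.D (irr_isCharacter χ) 1 (trivB V) : ℝ) := by positivity
        rw [Nat.cast_sub hp'.pos] at hA ⊢
        push_cast at hA ⊢
        linarith
      have heqd : ∀ v : V, ((χ : S → ℂ) v).re = (d : ℝ) := fun v => (hle v).antisymm (by
        by_contra hlt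
        push Not at hlt
        have h1 : ∑ v : V, ((χ : S → ℂ) v).re < ∑ _v : V, (d : ℝ) :=
          Finset.sum_lt_sum (fun v _ => hle v) ⟨v, Finset.mem_univ v, hlt⟩
        rw [Finset.sum_const, Finset.card_univ, nsmul_eq_mul, ← Nat.card_eq_fintype_card] at h1
        linarith)
      refine (Subgroup.eq_bot_iff_forall V).2 fun v hv => faithful_of_ne hχne v ?_
      obtain ⟨n, ρ, hρ⟩ := irr_isCharacter χ
      have h1 := congrFun hρ 1
      rw [Representation.char_one, irr_one_eq_charDegree, ← hd] at h1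
      have h2 := heqd ⟨v, hv⟩
      have h3 : ‖(χ : S → ℂ) v‖ ≤ (d : ℝ) := by
        rw [← hρ, show (d : ℝ) = (Module.finrank ℂ (Fin n → ℂ) : ℝ) by exact_mod_cast h1.symm]
        exact norm_char_le ρ _
      rw [irr_one_eq_charDegree, ← hd]
      apply Complex.ext
      · simpa using h2
      · have h4 := Complex.sq_norm ((χ : S → ℂ) v)
        rw [Complex.normSq_apply, h2] at h4
        have h5 : ‖(χ : S → ℂ) v‖ ^ 2 ≤ (d : ℝ) ^ 2 := pow_le_pow_left₀ (norm_nonneg _) h3 2
        have h6 : ((χ : S → ℂ) v).im * ((χ : S → ℂ) v).im = 0 :=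
          le_antisymm (by nlinarith) (mul_self_nonneg _)
        simpa using mul_self_eq_zero.1 h6
    obtain ⟨x, hx⟩ := exists_prime_orderOf_dvd_card' (G := (P : Subgroup S)) p hP.symm.dvd
    have hx1 : x ≠ 1 := fun h => by rw [h, orderOf_one] at hx; exact hp'.ne_one hx.symm
    have hx1' : (x : S) ≠ 1 := fun h => hx1 (Subtype.ext h)
    have hxo : orderOf (x : S) = p := by rw [Subgroup.orderOf_coe]; exact hx
    have hPx : (P : Subgroup S) = Subgroup.zpowers (x : S) :=
      (Subgroup.eq_of_le_of_card_ge (Subgroup.zpowers_le.2 x.2)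
        (by rw [Nat.card_zpowers, hxo]; exact hP.le)).symm
    have hCx : Subgroup.centralizer ({(x : S)} : Set S) = Subgroup.zpowers (x : S) := by
      rw [← DefOne.centralizer_P K x.2 hx1', ← hPx]
      refine le_antisymm (fun c hc => ?_) (fun c hc => (K.hC c).2 ⟨c, hc, 1, one_mem _, mul_one c⟩)
      obtain ⟨y, hy, v, hv, rfl⟩ := (K.hC c).1 hc
      rw [hV, Subgroup.mem_bot] at hv
      rw [hv, mul_one]; exact hy
    -- one class of elements of order `p`
    have hconj : ∀ y : S, y ∈ (P : Subgroup S) → y ≠ 1 → IsConj (x : S) y := by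
      intro y hy hy1
      let T : Set S := {z | z ∈ (P : Subgroup S) ∧ z ≠ 1}
      let f : N → T := fun g => ⟨(g : S) * x * (g : S)⁻¹,
        (Subgroup.mem_normalizer_iff.1 g.2 _).1 x.2, fun h => hx1' (by simpa using h)⟩
      have hT : Nat.card T = p - 1 := by
        have h1 : Nat.card T = Nat.card {z : (P : Subgroup S) // z ≠ 1} :=
          Nat.card_congr ⟨fun z => ⟨⟨z, z.2.1⟩, fun h => z.2.2 (congrArg Subtype.val h)⟩,
            fun z => ⟨z.1, z.1.2, fun h => z.2 (Subtype.ext h)⟩, fun z => rfl, fun z => rfl⟩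
        rw [h1, Nat.card_eq_fintype_card, Fintype.card_subtype_compl, Fintype.card_subtype_eq,
          ← Nat.card_eq_fintype_card, hP]
      let f' : (N ⧸ C.subgroupOf N) → T := Quotient.lift f (fun a b hab => by
        replace hab := Subgroup.mem_subgroupOf.1 (QuotientGroup.leftRel_apply.1 hab)
        have h1 : ((a⁻¹ * b : N) : S) * x = x * ((a⁻¹ * b : N) : S) :=
          (Subgroup.mem_centralizer_iff.1 hab x x.2).symm
        push_cast at h1
        refine Subtype.ext ?_
        show (a : S) * x * (a : S)⁻¹ = (b : S) * x * (b : S)⁻¹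
        rw [eq_mul_inv_iff_mul_eq]
        calc (a : S) * x * (a : S)⁻¹ * b = a * (x * ((a : S)⁻¹ * b)) := by group
          _ = a * ((a : S)⁻¹ * b * x) := by rw [h1]
          _ = b * x := by group)
      have hinj : Function.Injective f' := by
        intro a b
        induction a using QuotientGroup.induction_on with | H a => ?_
        induction b using QuotientGroup.induction_on with | H b => ?_
        intro h
        refine QuotientGroup.eq.2 ?_
        rw [Subgroup.mem_subgroupOf, hCdef, DefOne.centralizer_P K x.2 hx1',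
          Subgroup.mem_centralizer_singleton_iff]
        have h1 : (a : S) * x * (a : S)⁻¹ = (b : S) * x * (b : S)⁻¹ := congrArg Subtype.val h
        push_cast
        calc (a : S)⁻¹ * b * x = (a : S)⁻¹ * ((b : S) * x * (b : S)⁻¹) * b := by group
          _ = x * ((a : S)⁻¹ * b) := by rw [← h1]; group
      have hbij := hinj.bijective_of_nat_card_le (by rw [hT, ← hep]; exact le_rfl)
      obtain ⟨a, ha'⟩ := hbij.2 ⟨y, hy, hy1⟩
      induction a using QuotientGroup.induction_on with | H a => ?_
      exact isConj_iff.2 ⟨a, congrArg Subtype.val ha'⟩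
    have ht : Nat.card {C : ConjClasses S // ∃ g ∈ C.carrier, orderOf g = p} = 1 := by
      refine Nat.card_eq_one_iff_unique.2 ⟨⟨?_⟩, ⟨⟨ConjClasses.mk (x : S), x, ConjClasses.mem_carrier_mk, hxo⟩⟩⟩
      have key : ∀ g : S, orderOf g = p → ConjClasses.mk g = ConjClasses.mk (x : S) := by
        intro g hg
        obtain ⟨Q, hQ⟩ := (IsPGroup.of_card (p := p) (n := 1)
          (by rw [Nat.card_zpowers, hg, pow_one]) : IsPGroup p (Subgroup.zpowers g)).exists_le_sylow
        obtain ⟨c, hc⟩ := MulAction.exists_smul_eq S Q P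
        have hgP : c * g * c⁻¹ ∈ (P : Subgroup S) := by
          rw [← hc, Sylow.coe_subgroup_smul]
          exact ⟨g, hQ (Subgroup.mem_zpowers g), rfl⟩
        have hne : c * g * c⁻¹ ≠ 1 := fun h => by
          rw [conj_eq_one_iff] at h
          rw [h, orderOf_one] at hg; exact hp'.ne_one hg.symm
        rw [ConjClasses.mk_eq_mk_iff_isConj]
        exact (isConj_iff.2 ⟨c, rfl⟩ : IsConj g (c * g * c⁻¹)).trans (hconj _ hgP hne).symm
      rintro ⟨C₁, g₁, hg₁, ho₁⟩ ⟨C₂, g₂, hg₂, ho₂⟩
      rw [ConjClasses.mem_carrier_iff_mk_eq] at hg₁ hg₂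
      exact Subtype.ext (hg₁.symm.trans ((key g₁ ho₁).trans ((key g₂ ho₂).symm.trans hg₂)))
    rcases S4508.result p hp' (x : S) hxo hCx 1 ht χ (by rw [← hd, hdp1]; omega) with h | h
    · exact Nat.not_even_one h
    · have hperf : commutator S = ⊤ := by
        rcases (inferInstance : (commutator S).Normal).eq_bot_or_eq_top with hb | htop
        · exact absurd ⟨⟨fun a b => commutatorElement_eq_one_iff_mul_comm.1 (Subgroup.mem_bot.1
            (hb ▸ Subgroup.commutator_mem_commutator (Subgroup.mem_top a) (Subgroup.mem_top b)))⟩⟩ hna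
        · exact htop
      rw [hperf, Subgroup.index_top] at h
      exact Nat.not_even_one h

end Cfsg.Agent.SylowNumPSquare
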